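import Groth.Agent.S0185
import Groth.Agent.S0127
import Groth.Agent.EtpbcA.CdTwoDim
import Groth.Agent.EtpbcA.CdFinDim
import Groth.Agent.Sga4B.ShriekTools
import Groth.Agent.Sga4h.H925.Defs

/-!
# Finiteness and vanishing of `H^m(S_K, M)`

`c : S ⟶ Spec k` proper, `K` separably closed: `HK K c M m` is finite for `M` constructible (`finite_HK`), zero for
`m ≥ N`, `N` independent of `M` (`exists_subsingleton_HK`, `c` of finite type).
-/

set_option autoImplicit false
universe u
open CategoryTheory CategoryTheory.Limits AlgebraicGeometry Opposite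

namespace Groth.Agent.Sga4h.H616.FinVan

open Groth.Agent.Sga4h.H925.Defs

theorem killedBy_card {Λ : Type} [CommRing Λ] [Finite Λ] {X : Scheme.{u}} (L : EtLam.Sheaf Λ X) :
    EtCoh.KilledBy (Nat.card Λ) L.carrier := by
  rw [Groth.Agent.Sga4B.ShriekTools.killedBy_iff]
  have h1 : ((Nat.card Λ : ℕ) : Λ) = 0 := by
    have h2 : (Nat.card Λ) • (1 : Λ) = 0 := card_nsmul_eq_zero'
    rwa [nsmul_one] at h2
  have h3 : (Nat.card Λ) • (1 : End L.carrier) = 0 := by
    rw [nsmul_one, ← map_natCast L.act, h1, map_zero]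
  exact h3

theorem isTorsion {Λ : Type} [CommRing Λ] [Finite Λ] {X : Scheme.{u}} (L : EtLam.Sheaf Λ X) :
    EtCoh.IsTorsion L.carrier :=
  Etrest.ConstBasic.isTorsion_of_killedBy Nat.card_pos (killedBy_card L)

variable {k : Type u} [Field k] (K : Type u) [Field K] [Algebra k K] [IsSepClosed K]
  {Λ : Type} [CommRing Λ] [Finite Λ] {S : Scheme.{u}} (c : S ⟶ Spec (CommRingCat.of k))

/-- Finiteness. -/
theorem finite_HK [IsProper c] (M : EtLam.Sheaf Λ S) (hM : EtPBC.IsConstructible M.carrier) (m : ℕ) :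
    Finite (HK K c M m) := by
  have : EtCoh.BCCont (FinFr.extπ K c) := EtCoh.bcCont _
  exact Groth.Agent.S0185.result (FinFr.ext K c) (FinFr.extStr K c) (Nat.card Λ) Nat.card_pos
    ((EtCoh.pull (FinFr.extπ K c)).obj M.carrier) (Groth.Agent.S0127.result (FinFr.extπ K c) M.carrier hM)
    (Groth.Agent.Sga4B.ShriekTools.killedBy_pull _ _ _ (killedBy_card M)) m

theorem finite_module_HK [IsProper c] (M : EtLam.Sheaf Λ S) (hM : EtPBC.IsConstructible M.carrier) (m : ℕ) :
    Module.Finite Λ (HK K c M m) := by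
  have := finite_HK K c M hM m
  exact Module.Finite.of_finite

variable (Λ) in
/-- Vanishing. -/
theorem exists_subsingleton_HK [LocallyOfFiniteType c] [QuasiCompact c] :
    ∃ N : ℕ, ∀ m : ℕ, N ≤ m → ∀ M : EtLam.Sheaf Λ S, Subsingleton (HK K c M m) := by
  obtain ⟨n, hn⟩ := Groth.Agent.EtpbcA.CdFinDim.exists_dim_le (FinFr.extStr K c)
  refine ⟨2 * n + 1, fun m hm M => ?_⟩
  exact Groth.Agent.EtpbcA.CdTwoDim.cohDimLE_two_mul (FinFr.ext K c) (FinFr.extStr K c) n hn
    ((EtCoh.pull (FinFr.extπ K c)).obj M.carrier)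
    (Etrest.ConstBasic.isTorsion_of_killedBy Nat.card_pos
      (Groth.Agent.Sga4B.ShriekTools.killedBy_pull _ _ _ (killedBy_card M))) m (by omega)

end Groth.Agent.Sga4h.H616.FinVan
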