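import Groth.Agent.EtpbcA.CdRelFin

/-!
# Vanishing of higher direct images of torsion sheaves above some degree

`f : X ⟶ Y` a morphism of schemes of finite type over a field: `∃ N, ∀ q ≥ N, R^q f_* F = 0` for all torsion `F`.
-/

set_option autoImplicit false
universe u
open CategoryTheory CategoryTheory.Limits AlgebraicGeometry Opposite

namespace Groth.Agent.Sga4h.H616.RpushVan

theorem exists_isZero {K : Type u} [Field K] {X Y : Scheme.{u}} (b : Y ⟶ Spec (CommRingCat.of K))
    [LocallyOfFiniteType b] (f : X ⟶ Y) [LocallyOfFiniteType (f ≫ b)] [QuasiCompact (f ≫ b)] :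
    ∃ N : ℕ, ∀ q : ℕ, N ≤ q → ∀ F : EtCoh.Ab X, EtCoh.IsTorsion F →
      IsZero ((EtCoh.Rpush f q).obj F) := by
  obtain ⟨n, hn⟩ := Groth.Agent.EtpbcA.CdFinDim.exists_dim_le (f ≫ b)
  exact ⟨2 * n + 1, fun q hq F hF =>
    Groth.Agent.EtpbcA.CdRelFin.relCohDimLE_of_field b f n hn F hF q (by omega)⟩

end Groth.Agent.Sga4h.H616.RpushVan
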