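import Groth.Agent.Sga4h.H911.PtCount
import Mathlib.AlgebraicGeometry.Morphisms.Finite

/-!
# Rational points and closed points of degree one

`sec : {x : ClosedPt X // ptDeg b x ≤ 1} → RatPt b` is bijective for `b : X ⟶ Spec k` locally of finite type.
-/

set_option autoImplicit false
universe u
open CategoryTheory CategoryTheory.Limits AlgebraicGeometry

namespace Groth.Agent.Sga4h.H616.RatDeg

open Groth.Agent.Sga4h.H911.PtCount

variable {k : Type u} [Field k] [Fintype k] {X : Scheme.{u}} (b : X ⟶ Spec (CommRingCat.of k))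

/-- The residue field of a closed point is finite over the base field. -/
theorem finite_resAlg [LocallyOfFiniteType b] (x : X) (hx : IsClosed ({x} : Set X)) :
    letI := resAlg k b x
    Module.Finite k (X.residueField x : Type u) := by
  have : JacobsonSpace X := LocallyOfFiniteType.jacobsonSpace b
  have h1 : LocallyOfFiniteType (X.fromSpecResidueField x) :=
    (isClosed_singleton_iff_locallyOfFiniteType).1 hx
  have h2 : LocallyOfFiniteType (X.fromSpecResidueField x ≫ b) := inferInstance
  rw [← specMap_resHom, HasRingHomProperty.Spec_iff (P := @LocallyOfFiniteType)] at h2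
  letI := resAlg k b x
  have h3 : (algebraMap k (X.residueField x)).FiniteType := h2
  rw [RingHom.finiteType_algebraMap] at h3
  exact finite_of_finite_type_of_isJacobsonRing _ _

theorem ptDeg_pos [LocallyOfFiniteType b] (x : X) (hx : IsClosed ({x} : Set X)) :
    0 < FinFr.ptDeg b x := by
  letI := resAlg k b x
  have := finite_resAlg b x hx
  exact Module.finrank_pos

theorem isIso_of_ptDeg_eq_one (x : X) (h : FinFr.ptDeg b x = 1) :
    IsIso (X.fromSpecResidueField x ≫ b) := by
  letI := resAlg k b x
  have h2 : Module.finrank k (X.residueField x : Type u) = 1 := h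
  have h3 : Function.Bijective (algebraMap k (X.residueField x : Type u)) :=
    ⟨(algebraMap k _).injective, by
      intro z
      obtain ⟨c, hc⟩ := (finrank_eq_one_iff_of_nonzero' (1 : (X.residueField x : Type u)) one_ne_zero).1 h2 z
      exact ⟨c, by rw [← hc, Algebra.smul_def, mul_one]⟩⟩
  have h4 : IsIso (resHom k b x) := (ConcreteCategory.isIso_iff_bijective (resHom k b x)).2 h3
  rw [← specMap_resHom]
  infer_instance

/-- The closed points of degree at most one. -/
abbrev Deg1 : Type u := {x : FinFr.ClosedPt X // FinFr.ptDeg b x.1 ≤ 1}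

theorem isIso_str [LocallyOfFiniteType b] (s : Deg1 b) : IsIso (X.fromSpecResidueField s.1.1 ≫ b) :=
  isIso_of_ptDeg_eq_one b _ (le_antisymm s.2 (ptDeg_pos b s.1.1 s.1.2))

/-- The rational point of a closed point of degree one. -/
noncomputable def sec [LocallyOfFiniteType b] (s : Deg1 b) : FinFr.RatPt b :=
  haveI := isIso_str b s
  ⟨inv (X.fromSpecResidueField s.1.1 ≫ b) ≫ X.fromSpecResidueField s.1.1, by
    rw [Category.assoc, IsIso.inv_hom_id]⟩

/-- The section to the residue field. -/
noncomputable def secRes [LocallyOfFiniteType b] (s : Deg1 b) :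
    Spec (CommRingCat.of k) ⟶ Spec (X.residueField s.1.1) :=
  haveI := isIso_str b s
  inv (X.fromSpecResidueField s.1.1 ≫ b)

instance [LocallyOfFiniteType b] (s : Deg1 b) : IsIso (secRes b s) := by
  have := isIso_str b s
  unfold secRes
  infer_instance

theorem secRes_comp [LocallyOfFiniteType b] (s : Deg1 b) :
    secRes b s ≫ X.fromSpecResidueField s.1.1 = (sec b s).1 := rfl

theorem secRes_str [LocallyOfFiniteType b] (s : Deg1 b) :
    secRes b s ≫ X.fromSpecResidueField s.1.1 ≫ b = 𝟙 _ := by
  have := isIso_str b s
  exact IsIso.inv_hom_id _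

theorem sec_bijective [LocallyOfFiniteType b] : Function.Bijective (sec b) := by
  constructor
  · intro s t h
    have h1 : ∀ s : Deg1 b, (sec b s).1 (IsLocalRing.closedPoint k) = s.1.1 := by
      intro s
      rw [← secRes_comp, Scheme.Hom.comp_apply]
      exact Scheme.fromSpecResidueField_apply _ _
    have h2 : s.1.1 = t.1.1 := by rw [← h1 s, ← h1 t, h]
    exact Subtype.ext (Subtype.ext h2)
  · intro x
    let s := Scheme.SpecToEquivOfField k X x.1
    have h : Spec.map s.2 ≫ X.fromSpecResidueField s.1 = x.1 :=
      (Scheme.SpecToEquivOfField k X).symm_apply_apply x.1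
    have h1 : resHom k b s.1 ≫ s.2 = 𝟙 _ := by
      apply Spec.map_injective
      rw [Spec.map_comp, specMap_resHom, ← Category.assoc, h, x.2, Spec.map_id]
    have h2 : IsIso (resHom k b s.1) := by
      rw [ConcreteCategory.isIso_iff_bijective]
      refine ⟨RingHom.injective _, fun z => ⟨s.2.hom z, ?_⟩⟩
      apply RingHom.injective s.2.hom
      exact congrArg (fun f => f.hom (s.2.hom z)) h1
    have h3 : FinFr.ptDeg b s.1 = 1 := by
      letI := resAlg k b s.1
      have h4 : Function.Bijective (algebraMap k (X.residueField s.1 : Type u)) :=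
        (ConcreteCategory.isIso_iff_bijective (resHom k b s.1)).1 h2
      change Module.finrank k (X.residueField s.1 : Type u) = 1
      rw [finrank_eq_one_iff_of_nonzero' (1 : (X.residueField s.1 : Type u)) one_ne_zero]
      intro z
      obtain ⟨c, hc⟩ := h4.2 z
      exact ⟨c, by rw [← hc, Algebra.smul_def, mul_one]⟩
    have : LocallyOfFiniteType b := inferInstance
    refine ⟨⟨⟨s.1, isClosed_of_deg_pos k b s.1 (by rw [h3]; exact one_pos)⟩, h3.le⟩, ?_⟩
    apply Subtype.ext
    have := isIso_of_ptDeg_eq_one b s.1 h3
    change inv (X.fromSpecResidueField s.1 ≫ b) ≫ X.fromSpecResidueField s.1 = x.1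
    have h5 : (X.fromSpecResidueField s.1 ≫ b) ≫ Spec.map s.2 = 𝟙 _ := by
      rw [← specMap_resHom, ← Spec.map_comp, ← Spec.map_id]
      congr 1
      rw [← cancel_epi (resHom k b s.1), reassoc_of% h1, Category.comp_id]
    rw [IsIso.inv_comp_eq, ← h, ← Category.assoc (X.fromSpecResidueField s.1 ≫ b), h5, Category.id_comp]

end Groth.Agent.Sga4h.H616.RatDeg
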