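import Groth.Agent.Sga4h.H616.TrCurve
import Groth.Agent.Sga4h.H912.TrDefect
import Groth.Agent.Sga4h.H157.ConstExt

/-!
# The defect of a constant sheaf on a smooth proper curve: all finite fields of coefficients
-/

set_option autoImplicit false
universe u
open CategoryTheory CategoryTheory.Limits AlgebraicGeometry Opposite
open scoped BigOperators

namespace Groth.Agent.Sga4h.H616.TrCurve

open Groth.Agent.Sga4h.H925.Defs Groth.Agent.Sga4h.H925.DetInv

variable {Λ : Type} [Field Λ] [Finite Λ] {k K : Type u} [Field k] [Fintype k] [Field K] [Algebra k K]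
  [Algebra.IsAlgebraic k K] [Fact FinFr.PullExact.{u}]

/-- Descent of the vanishing of the defect to an extension of the coefficient field. -/
theorem defect_const_of_ext {Λ₀ : Type} [Field Λ₀] [Algebra Λ₀ Λ] [Module.Finite Λ₀ Λ]
    {Z : Scheme.{u}} (z : Z ⟶ Spec (CommRingCat.of k)) (N : ℕ)
    (h : defect K (traceInv Λ₀) z N (FinFr.constLam Λ₀ Z) = 0) :
    defect K (traceInv Λ) z N (FinFr.constLam Λ Z) = 0 := by
  rw [H912.TrDefect.defect_ext z N (H157.ConstExt.isExtSh_const Λ₀ Λ Z), h, map_zero]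

/-- The trace formula for a constant sheaf on a smooth proper curve, as a statement on the defect. -/
theorem defect_const_all (ℓ : ℕ) [Fact ℓ.Prime] (hΛ : ringChar Λ = ℓ)
    (H : H915.CurveCase.LefFor K (ZMod ℓ)) {Z : Scheme.{u}}
    (z : Z ⟶ Spec (CommRingCat.of k)) [IsProper z] [SmoothOfRelativeDimension 1 z] :
    defect K (traceInv Λ) z 1 (FinFr.constLam Λ Z) = 0 := by
  have : CharP Λ ℓ := ringChar.of_eq hΛ
  let _ : Algebra (ZMod ℓ) Λ := ZMod.algebra Λ ℓ
  have : Module.Finite (ZMod ℓ) Λ := Module.Finite.of_finite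
  exact defect_const_of_ext (Λ₀ := ZMod ℓ) z 1 (defect_const H z)

end Groth.Agent.Sga4h.H616.TrCurve
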