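import Groth.Agent.Sga4h.H616.RatDeg
import Groth.Agent.Sga4h.H925.Defs
import Groth.Agent.Sga4h.H927.PtFrob

/-!
# The local side for the trace invariant

`loc K (traceInv Λ) b 1 M = Σᶠ x : RatPt b, locTrace x M`, and
`glob K (traceInv Λ) b M = Σᶠ i, (-1)^i * trace (frob b M i)`.
-/

set_option autoImplicit false
universe u
open CategoryTheory CategoryTheory.Limits AlgebraicGeometry Opposite
open scoped BigOperators

namespace Groth.Agent.Sga4h.H616.TrLoc

open Groth.Agent.Sga4h.H925.Defs Groth.Agent.Sga4h.H925.DetInv Groth.Agent.Sga4h.H927.HMod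
open Groth.Agent.Sga4h.H616.RatDeg

section iso

variable {Λ : Type} [CommRing Λ] {k : Type u} [Field k] {K : Type u} [Field K] [Algebra k K]
  {X₁ X₂ : Scheme.{u}} (a₁ : X₁ ⟶ Spec (CommRingCat.of k)) (a₂ : X₂ ⟶ Spec (CommRingCat.of k))
  (g : X₁ ⟶ X₂) (w : g ≫ a₂ = a₁) (σ : K ≃ₐ[k] K) (L : EtLam.Sheaf Λ X₂) (n : ℕ)

theorem isIso_extHom [IsIso g] : IsIso (FinFr.extHom (K := K) a₁ g w) := by
  unfold FinFr.extHom
  infer_instance

theorem extHom_galAct : FinFr.galAct a₁ σ ≫ FinFr.extHom (K := K) a₁ g w =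
    FinFr.extHom (K := K) a₁ g w ≫ FinFr.galAct a₂ σ := by
  apply pullback.hom_ext
  · have h1 := FinFr.extHom_fst (K := K) a₁ g w
    have h2 := FinFr.galAct_fst a₁ σ
    have h3 := FinFr.galAct_fst a₂ σ
    rw [Category.assoc, Category.assoc]
    refine (congrArg (FinFr.galAct a₁ σ ≫ ·) h1).trans ?_
    refine Eq.trans ?_ (congrArg (FinFr.extHom (K := K) a₁ g w ≫ ·) h3).symm
    refine Eq.trans ?_ h1.symm
    rw [← Category.assoc]
    exact congrArg (· ≫ g) h2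
  · have h1 : FinFr.extHom (K := K) a₁ g w ≫ FinFr.extStr K a₂ = FinFr.extStr K a₁ :=
      (pullback.lift_snd _ _ _).trans (Category.comp_id _)
    have h2 := FinFr.galAct_snd a₁ σ
    have h3 := FinFr.galAct_snd a₂ σ
    rw [Category.assoc, Category.assoc]
    refine (congrArg (FinFr.galAct a₁ σ ≫ ·) h1).trans ?_
    refine Eq.trans ?_ (congrArg (FinFr.extHom (K := K) a₁ g w ≫ ·) h3).symm
    rw [← Category.assoc, h1]
    exact h2

variable [Fact FinFr.PullExact.{u}]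

/-- The comparison of cohomology for an isomorphism of `k`-schemes is equivariant. -/
theorem galHM_iso_apply (x : HM (EtLam.pullback (FinFr.extπ K a₂) L) n)
    (y : HM (EtLam.pullback (FinFr.extπ K a₁) (EtLam.pullback g L)) n)
    (h : chgHM (FinFr.extπ K a₁) g (FinFr.extπ K a₁ ≫ g) rfl L n y =
      viaHM (FinFr.extHom (K := K) a₁ g w) (FinFr.extπ K a₂) (FinFr.extπ K a₁ ≫ g)
        (FinFr.extHom_fst a₁ g w) L n x) :
    chgHM (FinFr.extπ K a₁) g (FinFr.extπ K a₁ ≫ g) rfl L n (galHM a₁ σ (EtLam.pullback g L) n y) =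
      viaHM (FinFr.extHom (K := K) a₁ g w) (FinFr.extπ K a₂) (FinFr.extπ K a₁ ≫ g)
        (FinFr.extHom_fst a₁ g w) L n (galHM a₂ σ L n x) := by
  have w3 : FinFr.galAct a₁ σ ≫ FinFr.extπ K a₁ ≫ g = FinFr.extπ K a₁ ≫ g := by
    rw [← Category.assoc]
    exact congrArg (· ≫ g) (FinFr.galAct_fst a₁ σ)
  rw [galHM_eq, galHM_eq]
  refine (viaHM_chg_apply (FinFr.galAct a₁ σ) (FinFr.extπ K a₁) g (FinFr.extπ K a₁)
    (FinFr.extπ K a₁ ≫ g) (FinFr.extπ K a₁ ≫ g) (FinFr.galAct_fst a₁ σ) rfl w3 rfl L n y).symm.trans ?_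
  rw [h]
  refine (viaHM_comp_apply (FinFr.galAct a₁ σ) (FinFr.extHom (K := K) a₁ g w)
    (FinFr.galAct a₁ σ ≫ FinFr.extHom (K := K) a₁ g w) (FinFr.extπ K a₁ ≫ g)
    (FinFr.extπ K a₁ ≫ g) (FinFr.extπ K a₂) rfl w3 (FinFr.extHom_fst a₁ g w) ?_ L n x).trans ?_
  · rw [Category.assoc]
    exact (congrArg (FinFr.galAct a₁ σ ≫ ·) (FinFr.extHom_fst a₁ g w)).trans w3
  · exact (viaHM_comp_apply (FinFr.extHom (K := K) a₁ g w) (FinFr.galAct a₂ σ)
      (FinFr.galAct a₁ σ ≫ FinFr.extHom (K := K) a₁ g w) (FinFr.extπ K a₁ ≫ g)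
      (FinFr.extπ K a₂) (FinFr.extπ K a₂) (extHom_galAct a₁ a₂ g w σ).symm
      (FinFr.extHom_fst a₁ g w) (FinFr.galAct_fst a₂ σ) _ L n x).symm

include w in
/-- Isomorphic `k`-schemes have the same traces. -/
theorem trace_galHM_iso [IsIso g] :
    LinearMap.trace Λ _ (galHM a₁ σ (EtLam.pullback g L) n) = LinearMap.trace Λ _ (galHM a₂ σ L n) := by
  have := isIso_extHom (K := K) a₁ a₂ g w
  let E₁ := LinearEquiv.ofBijective (chgHM (FinFr.extπ K a₁) g (FinFr.extπ K a₁ ≫ g) rfl L n)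
    (bijective_chgHM _ _ _ _ L n)
  let E₂ := LinearEquiv.ofBijective (viaHM (FinFr.extHom (K := K) a₁ g w) (FinFr.extπ K a₂)
    (FinFr.extπ K a₁ ≫ g) (FinFr.extHom_fst a₁ g w) L n) (bijective_viaHM _ _ _ _ L n)
  rw [← LinearMap.trace_conj' _ E₁, ← LinearMap.trace_conj' _ E₂]
  congr 1
  refine LinearMap.ext fun v => ?_
  obtain ⟨y, rfl⟩ := E₁.surjective v
  obtain ⟨x, hx⟩ := E₂.surjective (E₁ y)
  rw [LinearEquiv.conj_apply_apply, E₁.symm_apply_apply, ← hx, LinearEquiv.conj_apply_apply,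
    E₂.symm_apply_apply]
  exact galHM_iso_apply a₁ a₂ g w σ L n x y hx.symm

end iso

section loc

variable {Λ : Type} [Field Λ] {k : Type u} [Field k] [Fintype k] (K : Type u) [Field K] [Algebra k K]
  [Algebra.IsAlgebraic k K] [Fact FinFr.PullExact.{u}] {P : Scheme.{u}} (b : P ⟶ Spec (CommRingCat.of k))

theorem traceInv_val (M : EtLam.Sheaf Λ P) (i : ℕ) :
    (traceInv Λ).val _ (frobK K b M i) = LinearMap.trace Λ _ (FinFr.frob (K := K) b M i) := rfl

theorem traceInv_val_galHM (M : EtLam.Sheaf Λ P) (i : ℕ) :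
    (traceInv Λ).val _ (frobK K b M i) =
      LinearMap.trace Λ _ (galHM (K := K) b (FinFr.arith k K).symm M i) := rfl

/-- The global side. -/
theorem glob_eq (M : EtLam.Sheaf Λ P) : glob K (traceInv Λ) b M =
    ∑ᶠ i : ℕ, (-1 : Λ) ^ i * LinearMap.trace Λ _ (FinFr.frob (K := K) b M i) := by
  refine finsum_congr fun i => ?_
  rw [traceInv_val]
  rcases Nat.even_or_odd i with h | h
  · rw [h.neg_one_pow, h.neg_one_pow, one_smul, one_mul]
  · rw [h.neg_one_pow, h.neg_one_pow, neg_one_smul, neg_one_mul]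

/-- The local term at a closed point of degree one. -/
theorem locV_eq [LocallyOfFiniteType b] (M : EtLam.Sheaf Λ P) (s : Deg1 b) :
    locV K (traceInv Λ) b s.1.1 M = FinFr.locTrace (K := K) (sec b s).1 M := by
  refine (traceInv_val_galHM K (P.fromSpecResidueField s.1.1 ≫ b)
    (EtLam.pullback (P.fromSpecResidueField s.1.1) M) 0).trans ?_
  refine Eq.trans ?_ (H927.PtFrob.locTrace_eq (K := K) (sec b s).1 M).symm
  refine (trace_galHM_iso (𝟙 _) (P.fromSpecResidueField s.1.1 ≫ b) (secRes b s) (secRes_str b s)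
    (FinFr.arith k K).symm (EtLam.pullback (P.fromSpecResidueField s.1.1) M) 0).symm.trans ?_
  exact trace_galHM_congr (𝟙 (Spec (CommRingCat.of k))) (FinFr.arith k K).symm
    (thL (secRes b s) (P.fromSpecResidueField s.1.1) (sec b s).1 (secRes_comp b s) M)
    (equi_thL _ _ _ _ M) 0

/-- The local side. -/
theorem loc_eq [LocallyOfFiniteType b] (M : EtLam.Sheaf Λ P) :
    loc K (traceInv Λ) b 1 M = ∑ᶠ x : FinFr.RatPt b, FinFr.locTrace (K := K) x.1 M :=
  finsum_eq_of_bijective (sec b) (sec_bijective b) fun s => locV_eq K b M s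

/-- The defect for the trace invariant. -/
theorem defect_eq_zero_iff [LocallyOfFiniteType b] (M : EtLam.Sheaf Λ P) :
    defect K (traceInv Λ) b 1 M = 0 ↔
      ∑ᶠ x : FinFr.RatPt b, FinFr.locTrace (K := K) x.1 M =
        ∑ᶠ i : ℕ, (-1 : Λ) ^ i * LinearMap.trace Λ _ (FinFr.frob (K := K) b M i) := by
  rw [defect, glob_eq, loc_eq, sub_eq_zero]
  exact eq_comm

end loc

end Groth.Agent.Sga4h.H616.TrLoc
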