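import Groth.Agent.Sga4h.H917.GSec
import Groth.Agent.Sga4h.H616.TrLoc
import Mathlib.FieldTheory.Finiteness

/-!
# The local trace of a constant sheaf is one
-/

set_option autoImplicit false
universe u
open CategoryTheory CategoryTheory.Limits AlgebraicGeometry Opposite
open scoped BigOperators

namespace Groth.Agent.Sga4h.H616.TrConst

open Groth.Agent.Etcore.LocSec Groth.Agent.Etcore.LocEt Groth.Agent.Etcore.Loc Groth.Agent.Etcore.HpullCalc Groth.Agent.Etcore.EtInst
open Groth.Agent.Sga4h.H917.GSec Groth.Agent.Sga4h.H927.HMod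
open Groth.Agent.Sga4B.HVia Groth.Agent.Etcore.PullCoh
open scoped Groth.Agent.Etcore.EtInst

section sec

variable (Λ : Type) [AddCommGroup Λ] {W Y X : Scheme.{u}} (π : W ⟶ Y) (x : Y ⟶ X)

/-- The sections of the pulled back constant sheaf. -/
noncomputable def cc (m : ULift.{u + 1} Λ) :
    EtCoh.sect ((EtCoh.pull π).obj ((EtCoh.pull x).obj (EtCoh.const X Λ))) (EtCoh.top W) :=
  gp π _ (gp x _ (cst X Λ m))

theorem cc_bijective [ConnectedSpace W] : Function.Bijective (cc Λ π x) := by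
  have h1 : app ((EtCoh.pull π).map (EtCore.pullConst x Λ).hom ≫ (EtCore.pullConst π Λ).hom)
      (EtCoh.top W) ∘ cc Λ π x = cst W Λ := by
    funext m
    rw [Function.comp_apply, cc, app_comp, ← gp_map, gp_cst, gp_cst]
  have h2 := cst_bijective W Λ
  rw [← h1] at h2
  exact (Function.Bijective.of_comp_iff' (app_bijective _ _) _).1 h2

end sec

variable {Λ : Type} [Field Λ] {k : Type u} [Field k] {K : Type u} [Field K] [Algebra k K]
  [Fact FinFr.PullExact.{u}]

instance connectedSpace_ext : ConnectedSpace (FinFr.ext K (𝟙 (Spec (CommRingCat.of k)))) := by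
  have e : Spec (CommRingCat.of K) ≅ FinFr.ext K (𝟙 (Spec (CommRingCat.of k))) :=
    (asIso (pullback.snd (𝟙 (Spec (CommRingCat.of k))) (FinFr.specι k K))).symm
  have : ConnectedSpace (Spec (CommRingCat.of K)) := inferInstance
  exact e.hom.homeomorph.surjective.connectedSpace e.hom.homeomorph.continuous

variable {X : Scheme.{u}} (x : Spec (CommRingCat.of k) ⟶ X) (σ : K ≃ₐ[k] K)

theorem galH_const (y : HH (FinFr.ext K (𝟙 (Spec (CommRingCat.of k))))
      ((EtCoh.pull (FinFr.extπ K (𝟙 _))).obj ((EtCoh.pull x).obj (EtCoh.const X Λ))) 0) :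
    @Eq (HH (FinFr.ext K (𝟙 (Spec (CommRingCat.of k))))
      ((EtCoh.pull (FinFr.extπ K (𝟙 _))).obj ((EtCoh.pull x).obj (EtCoh.const X Λ))) 0)
      (FinFr.galH (𝟙 _) σ ((EtCoh.pull x).obj (EtCoh.const X Λ)) 0 y) y := by
  have := FinFr.pullExact_out (FinFr.galAct (𝟙 (Spec (CommRingCat.of k))) σ)
  refine (HpullVia_apply_eq_hpVia (FinFr.galAct (𝟙 _) σ) (FinFr.extπ K (𝟙 _)) (FinFr.extπ K (𝟙 _))
    (FinFr.galAct_fst (𝟙 _) σ) _ 0 y).trans ?_
  apply (H0 _ _).injective
  obtain ⟨m, hm⟩ := (cc_bijective Λ (FinFr.extπ K (𝟙 (Spec (CommRingCat.of k)))) x).2 (H0 _ _ y)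
  rw [H0_hpVia, ← hm, cc]
  exact gpV_gp _ _ _ _ _

theorem galHM_const (v : HM (EtLam.pullback (FinFr.extπ K (𝟙 (Spec (CommRingCat.of k))))
    (EtLam.pullback x (FinFr.constLam Λ X))) 0) :
    galHM (K := K) (𝟙 (Spec (CommRingCat.of k))) σ (EtLam.pullback x (FinFr.constLam Λ X)) 0 v = v :=
  galH_const x σ v

omit [Fact FinFr.PullExact.{u}] in
theorem natCard_HM : Nat.card (HM (EtLam.pullback (FinFr.extπ K (𝟙 (Spec (CommRingCat.of k))))
    (EtLam.pullback x (FinFr.constLam Λ X))) 0) = Nat.card Λ := by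
  have h1 : Nat.card (HH (FinFr.ext K (𝟙 (Spec (CommRingCat.of k))))
      ((EtCoh.pull (FinFr.extπ K (𝟙 _))).obj ((EtCoh.pull x).obj (EtCoh.const X Λ))) 0) =
      Nat.card (ULift.{u + 1} Λ) :=
    Nat.card_congr ((H0 _ _).toEquiv.trans (Equiv.ofBijective _
      (cc_bijective Λ (FinFr.extπ K (𝟙 (Spec (CommRingCat.of k)))) x)).symm)
  exact h1.trans (Nat.card_congr Equiv.ulift)

omit [Fact FinFr.PullExact.{u}] in
theorem finrank_eq_one_of_card {V : Type*} [AddCommGroup V] [Module Λ V] [Finite Λ]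
    (h : Nat.card V = Nat.card Λ) : Module.finrank Λ V = 1 := by
  have h1 : 1 < Nat.card Λ := Finite.one_lt_card
  have : Finite V := Nat.finite_of_card_ne_zero (by rw [h]; omega)
  have h2 := Module.natCard_eq_pow_finrank (K := Λ) (V := V)
  rw [h] at h2
  have h3 : Nat.card Λ ^ 1 = Nat.card Λ ^ Module.finrank Λ V := by rw [pow_one]; exact h2
  exact (Nat.pow_right_injective h1 h3).symm

omit [Fact FinFr.PullExact.{u}] in
theorem trace_eq_one_of_card {V : Type*} [AddCommGroup V] [Module Λ V] [Finite Λ]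
    (h : Nat.card V = Nat.card Λ) (φ : V →ₗ[Λ] V) (hφ : ∀ v, φ v = v) :
    LinearMap.trace Λ V φ = 1 := by
  have h1 : φ = LinearMap.id := LinearMap.ext hφ
  have h2 := finrank_eq_one_of_card h
  have : Module.Finite Λ V := Module.finite_of_finrank_pos (by rw [h2]; exact one_pos)
  rw [h1, LinearMap.trace_id, h2, Nat.cast_one]

/-- The local trace of a constant sheaf. -/
theorem locTrace_const [Finite Λ] [Fintype k] [Algebra.IsAlgebraic k K] :
    FinFr.locTrace (K := K) x (FinFr.constLam Λ X) = 1 :=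
  (H927.PtFrob.locTrace_eq (K := K) x (FinFr.constLam Λ X)).trans
    (trace_eq_one_of_card (natCard_HM x) _ fun v => galHM_const x _ v)

/-- The local side for a constant sheaf is the number of rational points. -/
theorem loc_const [Finite Λ] [Fintype k] [Algebra.IsAlgebraic k K]
    (b : X ⟶ Spec (CommRingCat.of k)) [Finite (FinFr.RatPt b)] :
    ∑ᶠ x : FinFr.RatPt b, FinFr.locTrace (K := K) x.1 (FinFr.constLam Λ X) =
      (Nat.card (FinFr.RatPt b) : Λ) := by
  classical
  have := Fintype.ofFinite (FinFr.RatPt b)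
  rw [finsum_eq_sum_of_fintype, Finset.sum_congr rfl fun x _ => locTrace_const x.1,
    Finset.sum_const, Finset.card_univ, nsmul_eq_mul, mul_one, Nat.card_eq_fintype_card]

end Groth.Agent.Sga4h.H616.TrConst
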