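import Groth.Agent.Sga4h.H616.CompTr

/-!
# The trace formula from the vanishing of the defect
-/

set_option autoImplicit false
universe u
open CategoryTheory CategoryTheory.Limits AlgebraicGeometry Opposite
open scoped BigOperators

namespace Groth.Agent.Sga4h.H616.TrFinal

open Groth.Agent.Sga4h.H925.Defs Groth.Agent.Sga4h.H925.DetInv

/-- The conclusion of `S4244`, `S4245` from the vanishing of the defect of `j_! L`. -/
theorem formula_of_defect {k K : Type u} [Field k] [Fintype k] [Field K] [Algebra k K]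
    [Algebra.IsAlgebraic k K] {Λ : Type} [Field Λ] [Fact FinFr.PullExact.{u}] {X₀ P₀ : Scheme.{u}}
    (a : X₀ ⟶ Spec (CommRingCat.of k)) (j : X₀ ⟶ P₀) [IsOpenImmersion j]
    (b : P₀ ⟶ Spec (CommRingCat.of k)) [LocallyOfFiniteType b] (hj : j ≫ b = a) (L : EtLam.Sheaf Λ X₀)
    (h : defect K (traceInv Λ) b 1 (FinFr.extZeroLam j L) = 0) :
    ∑ᶠ x : FinFr.RatPt a, FinFr.locTrace (K := K) x.1 L =
      ∑ᶠ i : ℕ, (-1 : Λ) ^ i * LinearMap.trace Λ _ (FinFr.frobC (K := K) j b L i) := by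
  rw [← CompTr.finsum_extZero K j hj L]
  exact (TrLoc.defect_eq_zero_iff K b (FinFr.extZeroLam j L)).1 h

/-- The conclusion of `S4247`. -/
theorem count_of_defect {k K : Type u} [Field k] [Fintype k] [Field K] [Algebra k K]
    [Algebra.IsAlgebraic k K] {Λ : Type} [Field Λ] [Fact FinFr.PullExact.{u}] {X₀ P₀ : Scheme.{u}}
    (a : X₀ ⟶ Spec (CommRingCat.of k)) (j : X₀ ⟶ P₀) [IsOpenImmersion j]
    (b : P₀ ⟶ Spec (CommRingCat.of k)) [LocallyOfFiniteType b] (hj : j ≫ b = a) (L : EtLam.Sheaf Λ X₀)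
    [Finite (FinFr.RatPt a)] (h1 : ∀ x : FinFr.RatPt a, FinFr.locTrace (K := K) x.1 L = 1)
    (h : defect K (traceInv Λ) b 1 (FinFr.extZeroLam j L) = 0) :
    ∑ᶠ i : ℕ, (-1 : Λ) ^ i * LinearMap.trace Λ _ (FinFr.frobC (K := K) j b L i) =
      (Nat.card (FinFr.RatPt a) : Λ) := by
  classical
  rw [← formula_of_defect a j b hj L h]
  have := Fintype.ofFinite (FinFr.RatPt a)
  rw [finsum_eq_sum_of_fintype, Finset.sum_congr rfl fun x _ => h1 x,
    Finset.sum_const, Finset.card_univ, nsmul_eq_mul, mul_one, Nat.card_eq_fintype_card]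

end Groth.Agent.Sga4h.H616.TrFinal
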