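import Groth.Agent.Sga4h.H616.TrLoc
import Groth.Agent.Sga4h.H927.ExtZeroId
import Groth.Agent.Sga4B.ShriekTools

/-!
# Local traces of an extension by zero

`j : U ⟶ X` an open immersion of `k`-schemes: `Σᶠ x : RatPt b, locTrace x (j_! L) = Σᶠ x : RatPt a, locTrace x L`.
-/

set_option autoImplicit false
universe u
open CategoryTheory CategoryTheory.Limits AlgebraicGeometry Opposite
open scoped BigOperators

namespace Groth.Agent.Sga4h.H616.CompTr

open Groth.Agent.Sga4h.H927.HMod Groth.Agent.Etcore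

section

variable {Λ : Type} [CommRing Λ] {k : Type u} [Field k] [Fintype k] (K : Type u) [Field K] [Algebra k K]
  [Algebra.IsAlgebraic k K] [Fact FinFr.PullExact.{u}] {X : Scheme.{u}}

omit [Field k] [Fintype k] [Field K] [Algebra k K] [Algebra.IsAlgebraic k K] [Fact FinFr.PullExact.{u}] in
theorem post_zero {F G : EtCoh.Ab X} (n : ℕ) (e : EtCoh.H X F n) :
    Groth.Agent.Etrest.HPost.post (0 : F ⟶ G) n e = 0 := by
  rw [Etrest.HPost.post_apply, Abelian.Ext.mk₀_zero, Abelian.Ext.comp_zero]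

/-- `locTrace` only depends on the pulled back sheaf. -/
theorem locTrace_congr {X' : Scheme.{u}} (x : Spec (CommRingCat.of k) ⟶ X)
    (x' : Spec (CommRingCat.of k) ⟶ X') (L : EtLam.Sheaf Λ X) (L' : EtLam.Sheaf Λ X')
    (φ : (EtLam.pullback x L).carrier ⟶ (EtLam.pullback x' L').carrier) [IsIso φ]
    (h : Equi (EtLam.pullback x L) (EtLam.pullback x' L') φ) :
    FinFr.locTrace (K := K) x L = FinFr.locTrace (K := K) x' L' :=
  (H927.PtFrob.locTrace_eq (K := K) x L).trans
    ((trace_galHM_congr (𝟙 _) (FinFr.arith k K).symm φ h 0).trans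
      (H927.PtFrob.locTrace_eq (K := K) x' L').symm)

/-- The local trace of a sheaf vanishing at the point. -/
theorem locTrace_of_isZero (x : Spec (CommRingCat.of k) ⟶ X) (L : EtLam.Sheaf Λ X)
    (h : IsZero (EtLam.pullback x L).carrier) : FinFr.locTrace (K := K) x L = 0 := by
  refine (H927.PtFrob.locTrace_eq (K := K) x L).trans ?_
  have h1 : IsZero (EtLam.pullback (FinFr.extπ K (𝟙 (Spec (CommRingCat.of k)))) (EtLam.pullback x L)).carrier :=
    (EtCoh.pull (FinFr.extπ K (𝟙 (Spec (CommRingCat.of k))))).map_isZero h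
  have h2 : galHM (K := K) (𝟙 (Spec (CommRingCat.of k))) (FinFr.arith k K).symm (EtLam.pullback x L) 0 = 0 := by
    refine LinearMap.ext fun v => ?_
    have h3 := mapHM_id_apply (Equi.id (EtLam.pullback (FinFr.extπ K (𝟙 (Spec (CommRingCat.of k))))
      (EtLam.pullback x L))) 0 (galHM (K := K) (𝟙 (Spec (CommRingCat.of k))) (FinFr.arith k K).symm
        (EtLam.pullback x L) 0 v)
    rw [mapHM_congr ((IsZero.iff_id_eq_zero _).1 h1)] at h3
    rw [LinearMap.zero_apply, ← h3]
    exact post_zero 0 _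
  rw [h2, map_zero]

variable {U : Scheme.{u}} (j : U ⟶ X) [IsOpenImmersion j]

omit [Field k] [Fintype k] [Field K] [Algebra k K] [Algebra.IsAlgebraic k K] [Fact FinFr.PullExact.{u}] in
theorem isPullback_id {S : Scheme.{u}} (u : S ⟶ U) : IsPullback (𝟙 S) u (u ≫ j) j :=
  ⟨⟨Category.id_comp _⟩, ⟨PullbackCone.isLimitAux' _ fun s => ⟨s.fst, by
    refine ⟨Category.comp_id _, ?_, fun {m} h1 _ => by rw [← h1]; exact (Category.comp_id _).symm⟩
    rw [← cancel_mono j]
    exact (Category.assoc _ _ _).trans s.condition⟩⟩⟩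

/-- The base change isomorphism `(u ≫ j)^* j_! L ≅ (𝟙)_! u^* L`: the underlying map. -/
noncomputable def bcHom {S : Scheme.{u}} (u : S ⟶ U) (L : EtLam.Sheaf Λ U) :
    (EtLam.pullback (u ≫ j) (FinFr.extZeroLam j L)).carrier ⟶
      (FinFr.extZeroLam (𝟙 S) (EtLam.pullback u L)).carrier :=
  (ShriekBaseChange.extZeroBaseChange j (u ≫ j) (𝟙 S) u (isPullback_id j u)).inv.app L.carrier

instance isIso_bcHom {S : Scheme.{u}} (u : S ⟶ U) (L : EtLam.Sheaf Λ U) : IsIso (bcHom j u L) :=
  NatIso.isIso_app_of_isIso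
    (ShriekBaseChange.extZeroBaseChange j (u ≫ j) (𝟙 S) u (isPullback_id j u)).inv L.carrier

theorem equi_bcHom {S : Scheme.{u}} (u : S ⟶ U) (L : EtLam.Sheaf Λ U) :
    Equi (EtLam.pullback (u ≫ j) (FinFr.extZeroLam j L))
      (FinFr.extZeroLam (𝟙 S) (EtLam.pullback u L)) (bcHom j u L) := fun r =>
  (ShriekBaseChange.extZeroBaseChange j (u ≫ j) (𝟙 S) u (isPullback_id j u)).inv.naturality (L.act r)

/-- `x^* j_! L ≅ u^* L` for `x = u ≫ j`. -/
theorem locTrace_extZero (u : Spec (CommRingCat.of k) ⟶ U) (L : EtLam.Sheaf Λ U) :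
    FinFr.locTrace (K := K) (u ≫ j) (FinFr.extZeroLam j L) = FinFr.locTrace (K := K) u L :=
  locTrace_congr K (u ≫ j) u (FinFr.extZeroLam j L) L
    (bcHom j u L ≫ H927.ExtZeroId.lamHom (EtLam.pullback u L))
    ((equi_bcHom j u L).comp (H927.ExtZeroId.lamHom_act (EtLam.pullback u L)))

/-- The local trace of `j_! L` outside of `U`. -/
theorem locTrace_extZero_of_not_mem (x : Spec (CommRingCat.of k) ⟶ X)
    (hx : x (IsLocalRing.closedPoint k) ∉ Set.range j) (L : EtLam.Sheaf Λ U) :
    FinFr.locTrace (K := K) x (FinFr.extZeroLam j L) = 0 := by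
  refine locTrace_of_isZero K x _ (Sga4B.ShriekTools.isZero_pull_extZero j x ?_ L.carrier)
  rw [Set.disjoint_left]
  rintro _ ⟨s, rfl⟩ h
  have : Subsingleton (Spec (CommRingCat.of k)) := inferInstanceAs (Subsingleton (PrimeSpectrum k))
  rw [Subsingleton.elim s (IsLocalRing.closedPoint k)] at h
  exact hx h

/-- The rational points of an open subscheme. -/
noncomputable def ratMap {a : U ⟶ Spec (CommRingCat.of k)} {b : X ⟶ Spec (CommRingCat.of k)}
    (w : j ≫ b = a) (x : FinFr.RatPt a) : FinFr.RatPt b :=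
  ⟨x.1 ≫ j, by rw [Category.assoc, w, x.2]⟩

omit [Fintype k] [Fact FinFr.PullExact.{u}] in
theorem ratMap_injective {a : U ⟶ Spec (CommRingCat.of k)} {b : X ⟶ Spec (CommRingCat.of k)}
    (w : j ≫ b = a) : Function.Injective (ratMap j w) := fun _ _ h =>
  Subtype.ext ((cancel_mono j).1 (congrArg Subtype.val h))

omit [Fintype k] [Fact FinFr.PullExact.{u}] in
theorem not_mem_of_not_range {a : U ⟶ Spec (CommRingCat.of k)} {b : X ⟶ Spec (CommRingCat.of k)}
    (w : j ≫ b = a) (x : FinFr.RatPt b) (hx : x ∉ Set.range (ratMap j w)) :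
    x.1 (IsLocalRing.closedPoint k) ∉ Set.range j := by
  intro h
  apply hx
  have : Subsingleton (Spec (CommRingCat.of k)) := inferInstanceAs (Subsingleton (PrimeSpectrum k))
  have hr : Set.range x.1 ⊆ Set.range j := by
    rintro _ ⟨s, rfl⟩
    rwa [Subsingleton.elim s (IsLocalRing.closedPoint k)]
  refine ⟨⟨IsOpenImmersion.lift j x.1 hr, ?_⟩, Subtype.ext (IsOpenImmersion.lift_fac _ _ _)⟩
  rw [← w, ← Category.assoc, IsOpenImmersion.lift_fac, x.2]

/-- The local side of the trace formula for an extension by zero. -/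
theorem finsum_extZero {a : U ⟶ Spec (CommRingCat.of k)} {b : X ⟶ Spec (CommRingCat.of k)}
    (w : j ≫ b = a) (L : EtLam.Sheaf Λ U) :
    ∑ᶠ x : FinFr.RatPt b, FinFr.locTrace (K := K) x.1 (FinFr.extZeroLam j L) =
      ∑ᶠ x : FinFr.RatPt a, FinFr.locTrace (K := K) x.1 L := by
  have h1 : Set.indicator (Set.range (ratMap j w))
      (fun x : FinFr.RatPt b => FinFr.locTrace (K := K) x.1 (FinFr.extZeroLam j L)) =
      fun x : FinFr.RatPt b => FinFr.locTrace (K := K) x.1 (FinFr.extZeroLam j L) := by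
    rw [Set.indicator_eq_self]
    intro x hx
    by_contra h
    exact hx (locTrace_extZero_of_not_mem K j x.1 (not_mem_of_not_range j w x h) L)
  rw [← h1, ← finsum_mem_def, finsum_mem_range (ratMap_injective j w)]
  exact finsum_congr fun x => locTrace_extZero K j x.1 L

end

end Groth.Agent.Sga4h.H616.CompTr
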