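import Groth.Agent.Sga4h.H616.TrConst
import Groth.Agent.Sga4h.H915.CurveCase

/-!
# The defect of a constant sheaf on a smooth proper curve vanishes
-/

set_option autoImplicit false
universe u
open CategoryTheory CategoryTheory.Limits AlgebraicGeometry Opposite
open scoped BigOperators

namespace Groth.Agent.Sga4h.H616.TrCurve

open Groth.Agent.Sga4h.H925.Defs Groth.Agent.Sga4h.H925.DetInv

variable {Λ : Type} [Field Λ] [Finite Λ] {k K : Type u} [Field k] [Fintype k] [Field K] [Algebra k K]
  [Algebra.IsAlgebraic k K] [Fact FinFr.PullExact.{u}]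

/-- The trace formula for a constant sheaf on a smooth proper curve, as a statement on the defect. -/
theorem defect_const (H : H915.CurveCase.LefFor K Λ) {Z : Scheme.{u}} (z : Z ⟶ Spec (CommRingCat.of k))
    [IsProper z] [SmoothOfRelativeDimension 1 z] :
    defect K (traceInv Λ) z 1 (FinFr.constLam Λ Z) = 0 := by
  have : Finite (FinFr.RatPt z) := H915.RatFix.finite_ratPt k z
  rw [TrLoc.defect_eq_zero_iff, TrConst.loc_const z]
  exact (H915.CurveCase.trace_formula z Λ H).symm

end Groth.Agent.Sga4h.H616.TrCurve
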